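import Cfsg.Agent.H838.Nm
import Cfsg.Agent.H935.FiThree.Max
import Cfsg.Agent.H838.PCoreAbs_m3
import Cfsg.Agent.H837.X4
import Cfsg.Agent.LThreeFi23.CentUuComp
import Cfsg.Agent.KFacts.FiTTh.BasFi
import Cfsg.Agent.FastGrp
import Cfsg.Agent.Prune
set_option linter.all false

section
prune_inst 0x7f00000000000000000000000000000000000000000000000000000000000000000000000000000000000000000000000000000000000000000000000000000000000000000000000000000000000000003fffffffffffffffffffffffffffbeffbdffffffff

-- part: H153/Pw/Fi23Cent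
section
set_option linter.all false
open scoped Cfsg.Agent.FastGrp

/-!
# `Fi23`: the centralizer of `W = (z j)(f e)(h i)` has at most `1693052928` elements (helper153)

Six levels of a stabilizer chain; the orbits are bounded by patterns.
-/

set_option autoImplicit false
set_option linter.constructorNameAsVariable false
set_option maxRecDepth 100000

namespace Cfsg.Agent.H153.Pw.Fi23Cent

open Subgroup Cfsg Cfsg.Agent.Lib.PermNet Cfsg.Agent.LThreeFi23 Cfsg.Agent.H838.Fi23
open Cfsg.Agent.H838.Nm (comm_app comm_flat tw elw_tw card_orb stab_cons)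
open Cfsg.Agent.H838.Three (stab mem_stab)
open Cfsg.Agent.H935.FiThree (W w0)
open Cfsg.Agent.Fischer.Fi23Hom (rho)
open Cfsg.Spor (Fi23)

/-- the centralizer -/
def CW : Subgroup Fi23 := centralizer {W}

theorem mem_CW {g : Fi23} : g ∈ CW ↔ g * W = W * g := by
  unfold CW
  rw [mem_centralizer_singleton_iff]

/-- the words commute with the element -/
def Cm (w : Fi23) (u : List Lt) : Prop := w * elw u = elw u * w

theorem Cm.app {w : Fi23} {u v : List Lt} (h : Cm w u) (h' : Cm w v) : Cm w (u ++ v) := comm_app h h'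

theorem Cm.rev {w : Fi23} {u : List Lt} (h : Cm w u) : Cm w u.reverse := by
  unfold Cm
  rw [elw_reverse]
  exact (show Commute w (elw u) from h).inv_right

theorem Cm.pt {w : Fi23} {x : Lt} (h : rho w (pt x) = pt x) : Cm w [x] := by
  unfold Cm
  rw [elw_one]
  exact (fix_pt_iff w x).1 h

theorem Cm.tw {w : Fi23} {u : List Lt} {p : ℕ} (hu : Nat.beq (ptw u 0) p = true) (hp : p < 31671)
    (h : rho w p = p) : Cm w (tw u) := by
  unfold Cm
  have h1 : rho (elw u) 0 = p := by
    rw [← ptw_eq]
    exact Nat.eq_of_beq_eq_true hu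
  rw [elw_tw h1]
  exact (fix_iff w hp).1 h

theorem Cm.flat {w : Fi23} {L : List (List Lt)} (h : ∀ u ∈ L, Cm w u) : Cm w L.flatten := comm_flat h

theorem fix_of {w : Fi23} {L : List (List Lt)} {q p : ℕ} (h : ∀ u ∈ L, Cm w u) (hq : rho w q = q)
    (hp : Nat.beq (ptw L.flatten q) p = true) : rho w p = p := by
  have h1 : rho (elw L.flatten) q = p := by
    rw [← ptw_eq]
    exact Nat.eq_of_beq_eq_true hp
  have h2 : w * elw L.flatten = elw L.flatten * w := Cm.flat h
  rw [← h1, ← Equiv.Perm.mul_apply, ← map_mul, h2, map_mul, Equiv.Perm.mul_apply, hq]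

/-- the number of points of a pattern, and one of its points -/
noncomputable def lvChk (cs : List (List Lt × Bool)) (n b : ℕ) : Bool :=
  seqB (pattern cs) fun m => and (Nat.beq (Lib.PermNetPat.pc 15 m) n) (tb m b)

theorem lvChk_spec {cs : List (List Lt × Bool)} {n b : ℕ} (h : lvChk cs n b = true) :
    Lib.PermNetPat.pc 15 (pattern cs) = n ∧ (pattern cs).testBit b = true := by
  unfold lvChk at h
  rw [seqB_eq, Bool.and_eq_true, tb_eq] at h
  exact ⟨Nat.eq_of_beq_eq_true h.1, h.2⟩

/-- one level -/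
theorem lvl {fx : List ℕ} {b n : ℕ} {cs : List (List Lt × Bool)} (hc : lvChk cs n b = true)
    (hcs : ∀ w ∈ CW ⊓ stab fx, ∀ c ∈ cs, Cm w c.1) :
    Nat.card ↥(CW ⊓ stab fx) ≤ n * Nat.card ↥(CW ⊓ stab (b :: fx)) := by
  classical
  obtain ⟨h1, h2⟩ := lvChk_spec hc
  have hb := ((testBit_pattern cs b).1 h2).1
  have hsub : ∀ w ∈ CW ⊓ stab fx, (pattern cs).testBit (rho w b) = true := by
    intro w hw
    rw [testBit_pattern] at h2 ⊢
    exact ⟨act_lt w h2.1, h2.2.act (hcs w hw)⟩
  have h3 := card_orb (H := CW ⊓ stab fx) (b := b)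
    (S := (Finset.range 31671).filter (fun q => ∃ g ∈ CW ⊓ stab fx, rho g b = q)) (by
      intro q
      rw [Finset.mem_filter, Finset.mem_range]
      constructor
      · intro h
        exact h.2
      · rintro ⟨g, hg1, hg⟩
        exact ⟨hg ▸ act_lt g hb, g, hg1, hg⟩)
  rw [h3, inf_assoc, stab_cons]
  refine Nat.mul_le_mul_right _ ?_
  rw [← h1, ← Lib.PermNetPat.card_filter_testBit]
  refine Finset.card_le_card ?_
  intro q hq
  rw [Finset.mem_filter, Finset.mem_range] at hq ⊢
  obtain ⟨hq1, g, hg, hq2⟩ := hq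
  refine ⟨hq1.trans (by norm_num), ?_⟩
  rw [← hq2]
  exact hsub g hg

/-! ### The data -/

/-- a path from `0` to `5041` -/
def u5041 : List Lt := [.g, .f, .c, .d, .e, .b, .c, .d, .h, .i, .g, .e, .f, .d, .e, .c, .d, .h, .a, .b, .c, .d, .e, .f,
  .g, .j]

/-- a path from `0` to `4571` -/
def u4571 : List Lt := [.g, .j, .z, .f, .e, .c, .d, .h, .i, .f, .d, .e, .b, .c, .d, .h, .a, .b, .c, .d, .e, .f, .g, .j]

theorem c0 : lvChk [(w0, false)] 324 11589 = true := by decide +kernel
theorem c1 : lvChk [(w0, false), ([.a], false)] 28 8003 = true := by decide +kernel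
theorem c2 : lvChk [(w0, false), ([.a], true), ([.c], true)] 288 8004 = true := by decide +kernel
theorem c3 : lvChk [(w0 ++ [.a, .b], false)] 27 5041 = true := by decide +kernel
theorem c4 : lvChk [([.a] ++ (tw u5041 ++ (w0 ++ tw u5041)), false), ([.c], false)] 12 7999 = true := by decide +kernel
theorem c5 : lvChk [(w0.reverse ++ ([.b] ++ (tw u5041 ++ [.h])), false), ([.c], true)] 2 4571 = true := by
  decide +kernel

theorem k5041 : Nat.beq (ptw u5041 0) 5041 = true := by decide +kernel
theorem k4571 : Nat.beq (ptw u4571 0) 4571 = true := by decide +kernel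

theorem p_i : Nat.beq (ptw [w0].flatten 7999) 8007 = true := by decide +kernel
theorem p_d : Nat.beq (ptw [tw u5041, [.c], tw u4571, [.i], [.c], tw u5041, [.b], [.c]].flatten 4571) 8000 = true := by
  decide +kernel
theorem p_e : Nat.beq (ptw [[.d], w0.reverse, [.d]].flatten 7999) 8001 = true := by decide +kernel
theorem p_f : Nat.beq (ptw [w0.reverse].flatten 8001) 8002 = true := by decide +kernel
theorem p_j : Nat.beq (ptw [tw u4571, [.e], [.h], w0.reverse].flatten 4571) 8006 = true := by decide +kernel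
theorem p_z : Nat.beq (ptw [w0.reverse].flatten 8006) 0 = true := by decide +kernel
theorem p_g : Nat.beq (ptw [w0.reverse, tw u4571, tw u5041, [.b], [.c]].flatten 8000) 8005 = true := by
  decide +kernel


/-! ### The levels -/

theorem cw {fx : List ℕ} {w : Fi23} (hw : w ∈ CW ⊓ stab fx) : Cm w w0 := mem_CW.1 hw.1

theorem fxd {fx : List ℕ} {w : Fi23} (hw : w ∈ CW ⊓ stab fx) {p : ℕ} (hp : p ∈ fx) : rho w p = p := hw.2 p hp

theorem L0 : Nat.card ↥(CW ⊓ stab []) ≤ 324 * Nat.card ↥(CW ⊓ stab [11589]) := by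
  refine lvl c0 ?_
  intro w hw c hc
  simp only [List.mem_cons, List.not_mem_nil, or_false] at hc
  rcases hc with rfl
  exact cw hw

theorem L1 : Nat.card ↥(CW ⊓ stab [11589]) ≤ 28 * Nat.card ↥(CW ⊓ stab [8003, 11589]) := by
  refine lvl c1 ?_
  intro w hw c hc
  have ha : Cm w [.a] := Cm.pt (fxd hw (by simp [pt]))
  simp only [List.mem_cons, List.not_mem_nil, or_false] at hc
  rcases hc with rfl | rfl
  · exact cw hw
  · exact ha

theorem L2 : Nat.card ↥(CW ⊓ stab [8003, 11589]) ≤ 288 * Nat.card ↥(CW ⊓ stab [8004, 8003, 11589]) := by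
  refine lvl c2 ?_
  intro w hw c hc
  have ha : Cm w [.a] := Cm.pt (fxd hw (by simp [pt]))
  have hcc : Cm w [.c] := Cm.pt (fxd hw (by simp [pt]))
  simp only [List.mem_cons, List.not_mem_nil, or_false] at hc
  rcases hc with rfl | rfl | rfl
  · exact cw hw
  · exact ha
  · exact hcc

theorem L3 : Nat.card ↥(CW ⊓ stab [8004, 8003, 11589]) ≤ 27 * Nat.card ↥(CW ⊓ stab [5041, 8004, 8003, 11589]) := by
  refine lvl c3 ?_
  intro w hw c hc
  have ha : Cm w [.a] := Cm.pt (fxd hw (by simp [pt]))
  have hb : Cm w [.b] := Cm.pt (fxd hw (by simp [pt]))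
  simp only [List.mem_cons, List.not_mem_nil, or_false] at hc
  rcases hc with rfl
  exact (cw hw).app (ha.app hb)

theorem L4 : Nat.card ↥(CW ⊓ stab [5041, 8004, 8003, 11589]) ≤
    12 * Nat.card ↥(CW ⊓ stab [7999, 5041, 8004, 8003, 11589]) := by
  refine lvl c4 ?_
  intro w hw c hc
  have ha : Cm w [.a] := Cm.pt (fxd hw (by simp [pt]))
  have hcc : Cm w [.c] := Cm.pt (fxd hw (by simp [pt]))
  have ht : Cm w (tw u5041) := Cm.tw k5041 (by norm_num) (fxd hw (by simp))
  simp only [List.mem_cons, List.not_mem_nil, or_false] at hc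
  rcases hc with rfl | rfl
  · exact ha.app (ht.app ((cw hw).app ht))
  · exact hcc

theorem L5 : Nat.card ↥(CW ⊓ stab [7999, 5041, 8004, 8003, 11589]) ≤
    2 * Nat.card ↥(CW ⊓ stab [4571, 7999, 5041, 8004, 8003, 11589]) := by
  refine lvl c5 ?_
  intro w hw c hc
  have hb : Cm w [.b] := Cm.pt (fxd hw (by simp [pt]))
  have hcc : Cm w [.c] := Cm.pt (fxd hw (by simp [pt]))
  have hh : Cm w [.h] := Cm.pt (fxd hw (by simp [pt]))
  have ht : Cm w (tw u5041) := Cm.tw k5041 (by norm_num) (fxd hw (by simp))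
  simp only [List.mem_cons, List.not_mem_nil, or_false] at hc
  rcases hc with rfl | rfl
  · exact (cw hw).rev.app (hb.app (ht.app hh))
  · exact hcc

theorem c1l {P : List Lt → Prop} {a : List Lt} (ha : P a) : ∀ u ∈ [a], P u := by
  intro u hu
  rw [List.mem_singleton] at hu
  rw [hu]
  exact ha

theorem cns {P : List Lt → Prop} {a : List Lt} {L : List (List Lt)} (ha : P a) (h : ∀ u ∈ L, P u) :
    ∀ u ∈ a :: L, P u := List.forall_mem_cons.2 ⟨ha, h⟩

theorem L6 : CW ⊓ stab [4571, 7999, 5041, 8004, 8003, 11589] = ⊥ := by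
  rw [eq_bot_iff]
  intro w hw
  rw [mem_bot]
  have hb : Cm w [.b] := Cm.pt (fxd hw (by simp [pt]))
  have hcc : Cm w [.c] := Cm.pt (fxd hw (by simp [pt]))
  have hh : Cm w [.h] := Cm.pt (fxd hw (by simp [pt]))
  have ht : Cm w (tw u5041) := Cm.tw k5041 (by norm_num) (fxd hw (by simp))
  have ht' : Cm w (tw u4571) := Cm.tw k4571 (by norm_num) (fxd hw (by simp))
  have hv : Cm w w0.reverse := (cw hw).rev
  have f7999 : rho w 7999 = 7999 := fxd hw (by simp)
  have f4571 : rho w 4571 = 4571 := fxd hw (by simp)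
  have fi : rho w 8007 = 8007 := fix_of (c1l (cw hw)) f7999 p_i
  have hi : Cm w [.i] := Cm.pt fi
  have fd : rho w 8000 = 8000 := fix_of (cns ht (cns hcc (cns ht' (cns hi (cns hcc (cns ht (cns hb (c1l hcc)))))))) f4571 p_d
  have hd : Cm w [.d] := Cm.pt fd
  have fe : rho w 8001 = 8001 := fix_of (cns hd (cns hv (c1l hd))) f7999 p_e
  have he : Cm w [.e] := Cm.pt fe
  have ff : rho w 8002 = 8002 := fix_of (c1l hv) fe p_f
  have fj : rho w 8006 = 8006 := fix_of (cns ht' (cns he (cns hh (c1l hv)))) f4571 p_j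
  have fz : rho w 0 = 0 := fix_of (c1l hv) fj p_z
  have fg : rho w 8005 = 8005 := fix_of (cns hv (cns ht' (cns ht (cns hb (c1l hcc))))) fd p_g
  apply eq_one_of_eight
  intro p hp
  simp only [b8, List.mem_cons, List.not_mem_nil, or_false] at hp
  rcases hp with rfl | rfl | rfl | rfl | rfl | rfl | rfl | rfl
  · exact fz
  · exact fj
  · exact fg
  · exact ff
  · exact fxd hw (by simp)
  · exact fxd hw (by simp)
  · exact fd
  · exact f7999

/-- **the bound** -/
theorem card_CW : Nat.card ↥CW ≤ 1693052928 := by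
  have h : CW ⊓ stab [] = CW := by
    rw [inf_eq_left]
    intro g _ p hp
    simp at hp
  have h0 := L0
  have h1 := L1
  have h2 := L2
  have h3 := L3
  have h4 := L4
  have h5 := L5
  rw [L6, Subgroup.card_bot] at h5
  rw [h] at h0
  omega

end Cfsg.Agent.H153.Pw.Fi23Cent
end

-- part: H153/Pw/Fi23NineA
section
set_option linter.all false
open scoped Cfsg.Agent.FastGrp

/-!
# `Fi23`: the centralizers of the classes of elements of order 3 (helper153)

* `fixN` : the number of transpositions fixed by an element;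
* `card_cent_of_ci` : the centralizers of two elements conjugate up to inversion have the same order;
* `card_cent1` : the centralizer of `y135` has at most `37791360` elements.
-/

set_option autoImplicit false
set_option linter.constructorNameAsVariable false
set_option maxRecDepth 100000

namespace Cfsg.Agent.H153.Pw.Fi23Nine

open Subgroup Cfsg Cfsg.Agent.Lib.PermNet Cfsg.Agent.LThreeFi23 Cfsg.Agent.H838.Fi23
open Cfsg.Agent.H838.Three (classes rep y135 y324 y27)
open Cfsg.Agent.H838.Mono (CI)
open Cfsg.Agent.Fischer.Fi23Hom (rho)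
open Cfsg.Spor (Fi23)

/-! ### Fixed points -/

/-- the transpositions fixed by an element -/
noncomputable def fixS (x : Fi23) : Finset ℕ := (Finset.range 31671).filter fun q => rho x q = q

theorem mem_fixS {x : Fi23} {q : ℕ} : q ∈ fixS x ↔ q < 31671 ∧ rho x q = q := by
  unfold fixS
  rw [Finset.mem_filter, Finset.mem_range]

theorem fixS_inv (x : Fi23) : fixS x⁻¹ = fixS x := by
  ext q
  rw [mem_fixS, mem_fixS, map_inv, Equiv.Perm.inv_eq_iff_eq]
  exact ⟨fun h => ⟨h.1, h.2.symm⟩, fun h => ⟨h.1, h.2.symm⟩⟩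

theorem fixS_conj (g x : Fi23) : (fixS (g * x * g⁻¹)).card = (fixS x).card := by
  symm
  refine Finset.card_bij (fun q _ => rho g q) ?_ ?_ ?_
  · intro q hq
    rw [mem_fixS] at hq ⊢
    refine ⟨act_lt g hq.1, ?_⟩
    rw [← Equiv.Perm.mul_apply, ← map_mul, inv_mul_cancel_right, map_mul, Equiv.Perm.mul_apply, hq.2]
  · intro q _ r _ h
    exact (rho g).injective h
  · intro q hq
    rw [mem_fixS] at hq
    refine ⟨rho g⁻¹ q, ?_, ?_⟩
    · rw [mem_fixS]
      refine ⟨act_lt _ hq.1, ?_⟩
      have h : rho (g⁻¹ * (g * x * g⁻¹)) q = rho g⁻¹ q := by rw [map_mul, Equiv.Perm.mul_apply, hq.2]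
      rw [← Equiv.Perm.mul_apply, ← map_mul]
      rw [← h]
      congr 2
      group
    · rw [← Equiv.Perm.mul_apply, ← map_mul, mul_inv_cancel, map_one]
      rfl

theorem fixS_ci {x y : Fi23} (h : CI x y) : (fixS x).card = (fixS y).card := by
  obtain ⟨g, h | h⟩ := h
  · rw [← h, fixS_conj]
  · rw [← fixS_inv y, ← h, fixS_conj]

/-- the number of fixed points of a word -/
theorem fixS_elw {w : List Lt} {n : ℕ} (h : Nat.beq (Lib.PermNetPat.pc 15 (pattern [(w, false)])) n = true) :
    (fixS (elw w)).card = n := by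
  rw [← Nat.eq_of_beq_eq_true h, ← Lib.PermNetPat.card_filter_testBit]
  refine congrArg Finset.card ?_
  ext q
  rw [mem_fixS, Finset.mem_filter, Finset.mem_range, testBit_pattern]
  constructor
  · intro ⟨h1, h2⟩
    refine ⟨h1.trans (by norm_num), h1, ?_⟩
    intro c hc
    rw [List.mem_singleton] at hc
    subst hc
    simp [h2]
  · intro ⟨_, h1, h2⟩
    refine ⟨h1, ?_⟩
    have := h2 (w, false) (by simp)
    simpa using this

theorem n_x0 : Nat.beq (Lib.PermNetPat.pc 15 (pattern [(H837.X1.x0w, false)])) 135 = true := by decide +kernel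
theorem n_uu : Nat.beq (Lib.PermNetPat.pc 15 (pattern [([.z, .j], false)])) 351 = true := by decide +kernel
theorem n_324 : Nat.beq (Lib.PermNetPat.pc 15 (pattern [(y324, false)])) 324 = true := by decide +kernel
theorem n_27 : Nat.beq (Lib.PermNetPat.pc 15 (pattern [(y27, false)])) 27 = true := by decide +kernel

/-! ### Centralizers -/

theorem card_cent_conj (g x : Fi23) :
    Nat.card ↥(centralizer ({g * x * g⁻¹} : Set Fi23)) = Nat.card ↥(centralizer ({x} : Set Fi23)) := by
  refine Nat.card_congr ⟨fun c => ⟨g⁻¹ * c.1 * g, ?_⟩, fun c => ⟨g * c.1 * g⁻¹, ?_⟩, ?_, ?_⟩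
  · have h := mem_centralizer_singleton_iff.1 c.2
    rw [mem_centralizer_singleton_iff]
    calc g⁻¹ * c.1 * g * x = g⁻¹ * (c.1 * (g * x * g⁻¹)) * g := by group
      _ = g⁻¹ * (g * x * g⁻¹ * c.1) * g := by rw [h]
      _ = x * (g⁻¹ * c.1 * g) := by group
  · have h := mem_centralizer_singleton_iff.1 c.2
    rw [mem_centralizer_singleton_iff]
    calc g * c.1 * g⁻¹ * (g * x * g⁻¹) = g * (c.1 * x) * g⁻¹ := by group
      _ = g * (x * c.1) * g⁻¹ := by rw [h]
      _ = g * x * g⁻¹ * (g * c.1 * g⁻¹) := by group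
  · intro c
    apply Subtype.ext
    change g * (g⁻¹ * c.1 * g) * g⁻¹ = c.1
    group
  · intro c
    apply Subtype.ext
    change g⁻¹ * (g * c.1 * g⁻¹) * g = c.1
    group

theorem cent_inv (x : Fi23) : centralizer ({x⁻¹} : Set Fi23) = centralizer ({x} : Set Fi23) := by
  ext c
  rw [mem_centralizer_singleton_iff, mem_centralizer_singleton_iff]
  exact ⟨fun h => by simpa only [_root_.inv_inv] using (show Commute c x⁻¹ from h).inv_right.eq,
    fun h => (show Commute c x from h).inv_right.eq⟩

theorem card_cent_of_ci {x y : Fi23} (h : CI x y) :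
    Nat.card ↥(centralizer ({x} : Set Fi23)) = Nat.card ↥(centralizer ({y} : Set Fi23)) := by
  obtain ⟨g, h | h⟩ := h
  · rw [← h, card_cent_conj]
  · rw [← cent_inv y, ← h, card_cent_conj]

theorem cent_le_pow (x : Fi23) (n : ℕ) : centralizer ({x} : Set Fi23) ≤ centralizer ({x ^ n} : Set Fi23) := by
  intro c hc
  rw [mem_centralizer_singleton_iff] at hc ⊢
  exact ((show Commute c x from hc).pow_right n).eq

/-! ### The class with 135 fixed points -/

open Cfsg.Agent.H837.X3 (x0 x0_pow gen_x0) in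
theorem x0_ne1 : x0 ≠ 1 := Cfsg.Agent.H837.X3.ne_one_of_mv Cfsg.Agent.H837.X1.x0_ne

open Cfsg.Agent.H837.X3 (x0 x0_pow gen_x0) in
open Cfsg.Agent.H837.X4 (N card_N) in
theorem card_x0 : Nat.card ↥(centralizer ({x0} : Set Fi23)) ≤ 37791360 := by
  have hle : centralizer ({x0} : Set Fi23) ≤ N := by
    intro c hc
    rw [mem_centralizer_singleton_iff] at hc
    unfold N
    rw [mem_normalizer_iff]
    intro h
    constructor
    · intro hh
      obtain ⟨m, rfl⟩ := mem_zpowers_iff.1 hh
      have h1 : c * x0 ^ m = x0 ^ m * c := ((show Commute c x0 from hc).zpow_right m).eq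
      rw [h1, mul_inv_cancel_right]
      exact zpow_mem (mem_zpowers x0) m
    · intro hh
      obtain ⟨m, hm⟩ := mem_zpowers_iff.1 hh
      have h1 : c * x0 ^ m = x0 ^ m * c := ((show Commute c x0 from hc).zpow_right m).eq
      have h2 : h = x0 ^ m := by
        calc h = c⁻¹ * (c * h * c⁻¹) * c := by group
          _ = c⁻¹ * (x0 ^ m * c) := by rw [← hm, mul_assoc]
          _ = x0 ^ m := by rw [← h1, inv_mul_cancel_left]
      rw [h2]
      exact zpow_mem (mem_zpowers x0) m
  have hne : centralizer ({x0} : Set Fi23) ≠ N := by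
    intro he
    have h1 : elw (Cfsg.Agent.H837.X1.gW 12) ∈ N := by
      rw [← Cfsg.Agent.H837.X4.H_eq]
      exact Subgroup.subset_closure ⟨_, List.getElem_mem (l := Cfsg.Agent.H837.X1.G) (n := 12) (by decide), rfl⟩
    rw [← he, mem_centralizer_singleton_iff] at h1
    have h2 := gen_x0 12 (by norm_num)
    rw [h1] at h2
    have h3 := mul_right_cancel h2
    have h4 : x0 ^ 2 = x0 := h3.symm
    rw [pow_two] at h4
    exact x0_ne1 (mul_eq_right.1 h4)
  have hd := Subgroup.card_dvd_of_le hle
  have hN := card_N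
  rw [hN] at hd
  obtain ⟨k, hk⟩ := hd
  have hk1 : k ≠ 1 := by
    rintro rfl
    apply hne
    apply Subgroup.eq_of_le_of_card_ge hle
    rw [hN, hk, mul_one]
  have hk0 : k ≠ 0 := by
    rintro rfl
    omega
  have hk2 : 2 ≤ k := by omega
  have h5 : Nat.card ↥(centralizer ({x0} : Set Fi23)) * 2 ≤ 75582720 := by
    rw [hk]
    exact Nat.mul_le_mul_left _ hk2
  omega

open Cfsg.Agent.H837.X3 (x0 x0_pow) in
theorem ci_x0 : CI x0 (rep 1) := by
  obtain ⟨k, hk⟩ := classes x0_pow x0_ne1
  have h := fixS_ci hk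
  have h0 : (fixS x0).card = 135 := (fixS_elw n_x0 :)
  rw [h0] at h
  fin_cases k
  · have h1 : (fixS (rep 0)).card = 351 := by
      have h2 := fixS_elw n_uu
      rw [elw_cons, elw_cons, elw_nil, mul_one] at h2
      exact h2
    change 135 = (fixS (rep 0)).card at h
    rw [h1] at h
    exact absurd h (by norm_num)
  · exact hk
  · have h1 : (fixS (rep 2)).card = 324 := (fixS_elw n_324 :)
    change 135 = (fixS (rep 2)).card at h
    rw [h1] at h
    exact absurd h (by norm_num)
  · have h1 : (fixS (rep 3)).card = 27 := (fixS_elw n_27 :)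
    change 135 = (fixS (rep 3)).card at h
    rw [h1] at h
    exact absurd h (by norm_num)

/-- **the centralizer of the second class** -/
theorem card_rep1 : Nat.card ↥(centralizer ({rep 1} : Set Fi23)) ≤ 37791360 := by
  rw [← card_cent_of_ci ci_x0]
  exact card_x0

/-- **the centralizer of the fourth class** -/
theorem card_rep3 : Nat.card ↥(centralizer ({rep 3} : Set Fi23)) = 944784 := Cfsg.Agent.H838.Nm.card_Cx

/-- the elements of order 9 have no cube in the first class -/
theorem not_rep0 {s : Fi23} (h : s ^ 3 = uu) : False := by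
  have hs : s ∈ centralizer ({uu} : Set Fi23) := by
    rw [mem_centralizer_singleton_iff, ← h]
    exact ((Commute.refl s).pow_right 3).eq
  obtain ⟨i, c, hc, e⟩ := exists_form hs
  have h1 : c * uu = uu * c := by
    have h2 : s * uu = uu * s := mem_centralizer_singleton_iff.1 hs
    have h3 : c = (uu ^ i)⁻¹ * s := by rw [e, inv_mul_cancel_left]
    rw [h3]
    exact (((Commute.refl uu).pow_left i).inv_left.mul_left (show Commute s uu from h2)).eq
  have h2 : Commute (uu ^ i) c := (show Commute c uu from h1).symm.pow_left i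
  apply uu_notMem
  rw [← h, e, h2.mul_pow, ← pow_mul, mul_comm i 3, pow_mul, uu_pow, one_pow, one_mul]
  exact pow_mem hc 3

end Cfsg.Agent.H153.Pw.Fi23Nine
end

-- part: H153/Pw/Fi23Fib
section
set_option linter.all false
open scoped Cfsg.Agent.FastGrp

/-!
# `Fi23`: a product of two different transpositions is such a product in at most three ways (helper153)
-/

set_option autoImplicit false
set_option linter.constructorNameAsVariable false
set_option maxRecDepth 100000

namespace Cfsg.Agent.H153.Pw.Fi23Fib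

open Subgroup Cfsg Cfsg.Agent.Lib.PermNet Cfsg.Agent.LThreeFi23
open Cfsg.Agent.H838.Three (conjJ0 conjZ1 conjZ2)
open Cfsg.Agent.Fischer.Fi23Hom (rho)
open Cfsg.Spor (Fi23)

theorem conj_TT (k : Fi23) {p q : ℕ} (hp : p < 31671) (hq : q < 31671) :
    T (rho k p) * T (rho k q) = k * (T p * T q) * k⁻¹ := by
  rw [T_act k hp, T_act k hq]
  group

theorem rho_inv_of {k : Fi23} {p q : ℕ} (h : rho k p = q) : rho k⁻¹ q = p := by
  rw [map_inv, Equiv.Perm.inv_eq_iff_eq, h]

theorem uu_1 : rho uu 8006 = 1 ∧ rho uu 1 = 0 := by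
  rw [← uu_eq]
  obtain ⟨-, h⟩ := (chain_cons _ _ _ _).1 k_u
  obtain ⟨h1, h⟩ := (chain_cons _ _ _ _).1 h
  obtain ⟨h2, -⟩ := (chain_cons _ _ _ _).1 h
  exact ⟨h1, h2⟩

theorem uu_pow_pt (i : ℕ) : rho (uu ^ i) 8006 = 0 ∨ rho (uu ^ i) 8006 = 1 ∨ rho (uu ^ i) 8006 = 8006 := by
  induction i with
  | zero => right; right; rw [pow_zero, map_one]; rfl
  | succ n ih =>
    rw [pow_succ', map_mul, Equiv.Perm.mul_apply]
    rcases ih with h | h | h
    · right; right; rw [h, rho_uu0]
    · left; rw [h, uu_1.2]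
    · right; left; rw [h, uu_1.1]

/-- commuting transpositions do not have the product `uu` -/
theorem not_com_of_uu {q' q : ℕ} (hq' : q' < 31671) (hq : q < 31671) (h : T q' * T q = uu) : ¬ Com q' q := by
  intro hc
  have h1 := (com_iff hq).1 hc
  apply uu_ne_one
  have h2 : uu * uu = 1 := by
    rw [← h]
    calc T q' * T q * (T q' * T q) = T q' * T q' * (T q * T q) := by
          rw [mul_assoc, ← mul_assoc (T q), ← h1]; group
      _ = 1 := by rw [T_sq hq', T_sq hq, one_mul]
  have h3 := uu_pow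
  rw [pow_succ, pow_two, h2, one_mul] at h3
  exact h3

/-- **the product of `z` and `j`** -/
theorem uu_fib {q' q : ℕ} (hq' : q' < 31671) (hq : q < 31671) (h : T q' * T q = uu) : q = 0 ∨ q = 1 ∨ q = 8006 := by
  obtain ⟨k, e1, e2⟩ := conjJ0 hq' hq (not_com_of_uu hq' hq h)
  have h1 := conj_TT k hq' hq
  rw [e1, e2, h, T0, T8006] at h1
  have h2 : k * uu * k⁻¹ = uu := h1.symm
  have h3 : k⁻¹ ∈ centralizer ({uu} : Set Fi23) := by
    rw [mem_centralizer_singleton_iff]
    calc k⁻¹ * uu = k⁻¹ * (k * uu * k⁻¹) := by rw [h2]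
      _ = uu * k⁻¹ := by group
  obtain ⟨i, c, hc, e⟩ := exists_form h3
  have h4 : rho c 8006 = 8006 := (fix_pt_iff c .j).2 (mem_CC.1 hc).2
  have h5 : rho k⁻¹ 8006 = q := rho_inv_of e2
  rw [e, map_mul, Equiv.Perm.mul_apply, h4] at h5
  rw [← h5]
  exact uu_pow_pt i

/-- the product of two transpositions that do not commute has order 3 -/
theorem cube_of_not_com {p q : ℕ} (hp : p < 31671) (hq : q < 31671) (h : ¬ Com p q) : (T p * T q) ^ 3 = 1 := by
  obtain ⟨g, hg⟩ := isConj_iff.1 (isConj_of_pair hp hq h)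
  have h1 := uu_pow
  rw [← hg, conj_pow] at h1
  exact conj_eq_one_iff.1 h1

theorem eq_one_of_two_three {G : Type*} [Group G] {x : G} (h2 : x * x = 1) (h3 : x ^ 3 = 1) : x = 1 := by
  rw [pow_succ, pow_two, h2, one_mul] at h3
  exact h3

theorem mul_self_of {G : Type*} [Group G] {x y : G} (hx : x * x = 1) (hy : y * y = 1) (h : x * y = y * x) :
    (x * y) * (x * y) = 1 := by
  calc x * y * (x * y) = x * (y * x) * y := by group
    _ = x * (x * y) * y := by rw [h]
    _ = (x * x) * (y * y) := by group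
    _ = 1 := by rw [hx, hy, one_mul]

theorem eq_of_mul {G : Type*} [Group G] {x y : G} (hy : y * y = 1) (h : x * y = 1) : x = y := by
  rw [mul_eq_one_iff_eq_inv] at h
  rw [h]
  exact inv_eq_of_mul_eq_one_left hy

open Cfsg.Agent.KFacts.FiTTh.Cent (W2 hW2 Ds2) in
/-- **the product of `z` and `a`** -/
theorem za_fib {q' q : ℕ} (hq' : q' < 31671) (hq : q < 31671) (h : T q' * T q = T 0 * T 11589) :
    q = 0 ∨ q = 11589 := by
  have ez : T 0 = el .z := T0
  have ea : T 11589 = el .a := T_a
  have ed : T 8000 = el .d := T_pt .d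
  have eb : T 8004 = el .b := T_pt .b
  have hza : el .z * el .a = el .a * el .z := lt_comm .z .a (by decide)
  have hzd : el .z * el .d = el .d * el .z := lt_comm .z .d (by decide)
  have had : el .a * el .d = el .d * el .a := lt_comm .a .d (by decide)
  have hzb : el .z * el .b = el .b * el .z := lt_comm .z .b (by decide)
  have hdb : el .d * el .b = el .b * el .d := lt_comm .d .b (by decide)
  by_contra hcon
  push Not at hcon
  obtain ⟨hn0, hna⟩ := hcon
  have hc : Com q' q := by
    by_contra hn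
    have h3 := cube_of_not_com hq' hq hn
    rw [h, ez, ea] at h3
    have h4 := eq_of_mul (el_sq .a) (eq_one_of_two_three (mul_self_of (el_sq _) (el_sq _) hza) h3)
    rw [← ez, ← ea] at h4
    exact absurd (T_inj (by norm_num) (by norm_num) h4) (by norm_num)
  have hcm := (com_iff hq).1 hc
  have hw : rho W2 q = q := by
    have e : W2 = T q' * T q := by rw [h, ez, ea]; rfl
    rw [e, fix_iff _ hq, hcm, mul_assoc, hcm]
  have c0 : Com 0 q := by
    have := hW2 q hq hw (el .z) (Or.inl rfl)
    unfold Com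
    rw [ez]
    exact this
  have ca : Com 11589 q := by
    have := hW2 q hq hw (el .a) (Or.inr rfl)
    unfold Com
    rw [ea]
    exact this
  have c0a : Com 0 11589 := by
    rw [com_iff (by norm_num), ez, ea]
    exact hza
  obtain ⟨k, e1, e2, e3⟩ := conjZ2 (p := 0) (q := 11589) (r := q) (by norm_num) (by norm_num) hq c0a
    (by norm_num) c0 ca hn0 hna
  have h1 := conj_TT k hq' hq
  have h2 := conj_TT k (p := 0) (q := 11589) (by norm_num) (by norm_num)
  rw [h, ← h2, e1, e2, e3] at h1
  set m := rho k q' with hm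
  have hmlt : m < 31671 := act_lt k hq'
  have hTm : T m = el .z * el .a * el .d := by
    rw [← ez, ← ea, ← h1, ed, mul_assoc, el_sq, mul_one]
  by_cases hb : Com m 8004
  · have h3 := (com_iff (by norm_num)).1 hb
    rw [hTm, eb] at h3
    apply ncom_ab
    rw [com_iff (by norm_num), ea, eb]
    have h4 : el .z * (el .a * el .b) * el .d = el .z * (el .b * el .a) * el .d := by
      calc el .z * (el .a * el .b) * el .d = el .z * el .a * (el .b * el .d) := by group
        _ = el .z * el .a * (el .d * el .b) := by rw [hdb]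
        _ = el .z * el .a * el .d * el .b := by group
        _ = el .b * (el .z * el .a * el .d) := h3
        _ = (el .b * el .z) * el .a * el .d := by group
        _ = (el .z * el .b) * el .a * el .d := by rw [hzb]
        _ = _ := by group
    exact mul_left_cancel (mul_right_cancel h4)
  · have h3 := cube_of_not_com hmlt (by norm_num) hb
    rw [hTm, eb] at h3
    have hab := cube_of_not_com (p := 11589) (q := 8004) (by norm_num) (by norm_num) ncom_ab
    rw [ea, eb] at hab
    have h4 : el .z * el .a * el .d * el .b = (el .z * el .d) * (el .a * el .b) := by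
      calc el .z * el .a * el .d * el .b = el .z * (el .a * el .d) * el .b := by group
        _ = el .z * (el .d * el .a) * el .b := by rw [had]
        _ = _ := by group
    have h5 : Commute (el .z * el .d) (el .a * el .b) :=
      ((show Commute (el .z) (el .a) from hza).mul_right (show Commute (el .z) (el .b) from hzb)).mul_left
        ((show Commute (el .d) (el .a) from had.symm).mul_right (show Commute (el .d) (el .b) from hdb))
    rw [h4, h5.mul_pow, hab, mul_one] at h3
    have h6 := eq_of_mul (el_sq .d) (eq_one_of_two_three (mul_self_of (el_sq _) (el_sq _) hzd) h3)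
    rw [← ez, ← ed] at h6
    exact absurd (T_inj (by norm_num) (by norm_num) h6) (by norm_num)

/-- **the fibers** -/
theorem fib {p' p : ℕ} (hp' : p' < 31671) (hp : p < 31671) (hne : p ≠ p') : ∃ S : Finset ℕ, S.card ≤ 3 ∧
    ∀ q' q : ℕ, q' < 31671 → q < 31671 → T q' * T q = T p' * T p → q ∈ S := by
  classical
  by_cases hc : Com p' p
  · obtain ⟨k, e1, e2⟩ := conjZ1 hp' hp hc hne
    refine ⟨({0, 11589} : Finset ℕ).image (fun q => rho k⁻¹ q), ?_, ?_⟩
    · exact Finset.card_image_le.trans (Finset.card_le_two.trans (by norm_num))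
    · intro q' q hq' hq h
      have h1 := conj_TT k hq' hq
      have h2 := conj_TT k hp' hp
      rw [h, ← h2, e1, e2] at h1
      rw [Finset.mem_image]
      refine ⟨rho k q, ?_, rho_inv_of rfl⟩
      rcases za_fib (act_lt k hq') (act_lt k hq) h1 with h3 | h3 <;> rw [h3] <;> simp
  · obtain ⟨k, e1, e2⟩ := conjJ0 hp' hp hc
    refine ⟨({0, 1, 8006} : Finset ℕ).image (fun q => rho k⁻¹ q), ?_, ?_⟩
    · exact Finset.card_image_le.trans Finset.card_le_three
    · intro q' q hq' hq h
      have h1 := conj_TT k hq' hq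
      have h2 := conj_TT k hp' hp
      rw [h, ← h2, e1, e2, T0, T8006] at h1
      rw [Finset.mem_image]
      refine ⟨rho k q, ?_, rho_inv_of rfl⟩
      rcases uu_fib (act_lt k hq') (act_lt k hq) h1 with h3 | h3 | h3 <;> rw [h3] <;> simp

end Cfsg.Agent.H153.Pw.Fi23Fib
end

-- part: H153/Pw/Fi23Nine
section
set_option linter.all false
open scoped Cfsg.Agent.FastGrp

/-!
# `Fi23`: the centralizer of an element of order 9 has at most `39191040` elements (helper153)

The cube of the element is in one of the four classes of elements of order 3; three of them are simple. In the class of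
`W` the element moves at least 149 of the 324 transpositions which commute with `W` and therefore has at least 50
conjugates under the centralizer of `W`.
-/

set_option autoImplicit false
set_option linter.constructorNameAsVariable false
set_option maxRecDepth 100000

namespace Cfsg.Agent.H153.Pw.Fi23Nine

open Subgroup Cfsg Cfsg.Agent.Lib.PermNet Cfsg.Agent.LThreeFi23 Cfsg.Agent.H838.Fi23
open Cfsg.Agent.H838.Three (classes rep y135 y324 y27)
open Cfsg.Agent.H838.Mono (CI)
open Cfsg.Agent.H935.FiThree (W w0 mF sF gws grow_spec orb_facts Fixes W_pts nine)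
open Cfsg.Agent.H153.Pw.Fi23Cent (CW mem_CW lvChk lvChk_spec card_CW c0)
open Cfsg.Agent.H153.Pw.Fi23Fib (fib)
open Cfsg.Agent.Fischer.Fi23Hom (rho)
open Cfsg.Spor (Fi23)

theorem app_mul (g h : Fi23) (p : ℕ) : rho (g * h) p = rho g (rho h p) := by
  rw [map_mul, Equiv.Perm.mul_apply]

/-! ### The 324 points -/

theorem f28 : lvChk [(w0, false), ([.c], false)] 28 8003 = true := by decide +kernel
theorem fF : Nat.beq (pattern [(w0, false)]) mF = true := by decide +kernel

theorem mem_mF {p : ℕ} : mF.testBit p = true ↔ p ∈ fixS W := by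
  rw [← Nat.eq_of_beq_eq_true fF, testBit_pattern, mem_fixS]
  constructor
  · intro ⟨h1, h2⟩
    refine ⟨h1, ?_⟩
    have := h2 (w0, false) (by simp)
    change rho (elw w0) p = p
    simpa using this
  · intro ⟨h1, h2⟩
    refine ⟨h1, ?_⟩
    intro c hc
    rw [List.mem_singleton] at hc
    subst hc
    change rho (elw w0) p = p at h2
    simp [h2]

theorem card_F : (fixS W).card = 324 := by
  have h : Nat.beq (Lib.PermNetPat.pc 15 (pattern [(w0, false)])) 324 = true := by
    rw [(lvChk_spec c0).1]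
    exact Nat.beq_refl 324
  exact fixS_elw h

theorem gws_CW : ∀ w ∈ gws, elw w ∈ CW := by
  intro w hw
  have key : ∀ l : List Lt, elw (l ++ w0) = elw (w0 ++ l) → elw l ∈ CW := by
    intro l h
    rw [elw_append, elw_append] at h
    exact mem_CW.2 h
  simp only [gws, List.mem_cons, List.not_mem_nil, or_false] at hw
  rcases hw with rfl | rfl | rfl | rfl | rfl | rfl
  · exact key _ H935.FiThree.a_w0
  · exact key _ H935.FiThree.b_w0
  · exact key _ H935.FiThree.c_w0
  · exact key _ H935.FiThree.u1_w0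
  · exact key _ H935.FiThree.u2_w0
  · exact key _ H935.FiThree.pp_w0

theorem trans_F {p : ℕ} (hp : p ∈ fixS W) : ∃ h ∈ CW, rho h 8003 = p := by
  rw [← mem_mF] at hp
  have ha : elw [.a] ∈ CW := gws_CW _ (by simp [gws])
  have hb : elw [.b] ∈ CW := gws_CW _ (by simp [gws])
  have hc : elw [.c] ∈ CW := gws_CW _ (by simp [gws])
  have hu1 : elw H935.FiThree.u1 ∈ CW := gws_CW _ (by simp [gws])
  have hu2 : elw H935.FiThree.u2 ∈ CW := gws_CW _ (by simp [gws])
  have hpp : elw H935.FiThree.pp ∈ CW := gws_CW _ (by simp [gws])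
  refine grow_spec (s := sF) (x := 8003) ?_ ?_ p hp
  · intro w hw
    simp only [sF, List.mem_cons, List.not_mem_nil, or_false] at hw
    rcases hw with rfl | rfl | rfl | rfl | rfl | rfl | rfl | rfl | rfl | rfl | rfl | rfl | rfl | rfl | rfl |
      rfl | rfl <;> assumption
  · intro p hp
    change (2 ^ 8003).testBit p = true at hp
    rw [Nat.testBit_two_pow] at hp
    exact ⟨1, CW.one_mem, by rw [map_one]; simpa using hp⟩

theorem CW_F {g : Fi23} (hg : g ∈ CW) {q : ℕ} (hq : q ∈ fixS W) : rho g q ∈ fixS W := by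
  rw [mem_fixS] at hq ⊢
  refine ⟨act_lt g hq.1, ?_⟩
  rw [← app_mul, ← mem_CW.1 hg, app_mul, hq.2]

open Classical in
theorem com_c : ((fixS W).filter (fun q => Com 8003 q)).card = 28 := by
  have h := Lib.PermNetPat.card_filter_testBit 15 (pattern [(w0, false), ([.c], false)])
  rw [(lvChk_spec f28).1] at h
  rw [← h]
  refine congrArg Finset.card ?_
  ext q
  rw [Finset.mem_filter, mem_fixS, Finset.mem_filter, Finset.mem_range, testBit_pattern]
  have e : Com 8003 q ↔ rho (elw [.c]) q = q := by rw [elw_one]; exact com_pt_iff .c q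
  constructor
  · intro ⟨⟨h1, h2⟩, h3⟩
    refine ⟨h1.trans (by norm_num), h1, ?_⟩
    intro c hc
    simp only [List.mem_cons, List.not_mem_nil, or_false] at hc
    rcases hc with rfl | rfl
    · change rho (elw w0) q = q at h2
      simp [h2]
    · simp [e.1 h3]
  · intro ⟨_, h1, h2⟩
    have a1 := h2 (w0, false) (by simp)
    have a2 := h2 ([.c], false) (by simp)
    refine ⟨⟨h1, ?_⟩, e.2 (by simpa using a2)⟩
    change rho (elw w0) q = q
    simpa using a1

open Classical in
theorem com_v {v : ℕ} (hv : v ∈ fixS W) : ((fixS W).filter (fun q => Com v q)).card ≤ 28 := by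
  obtain ⟨h, hh, rfl⟩ := trans_F hv
  rw [← com_c]
  refine Finset.card_le_card_of_injOn (fun q => rho h⁻¹ q) ?_ ?_
  · intro q hq
    rw [Finset.mem_coe, Finset.mem_filter] at hq ⊢
    refine ⟨CW_F (inv_mem hh) hq.1, ?_⟩
    rw [← com_act h (p := 8003) (by norm_num), ← app_mul, mul_inv_cancel, map_one]
    exact hq.2
  · intro q _ r _ e
    exact (rho h⁻¹).injective e

/-! ### Conjugates -/

theorem card_orbit_le {G : Type*} [Group G] [Finite G] {K : Subgroup G} {s : G}
    (hC : centralizer ({s} : Set G) ≤ K) (D : Finset G) (hD : ∀ x ∈ D, ∃ c ∈ K, c * s * c⁻¹ = x) :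
    D.card * Nat.card ↥(centralizer ({s} : Set G)) ≤ Nat.card ↥K := by
  classical
  choose! c hcK hc using hD
  let φ : (↥D × ↥(centralizer ({s} : Set G))) → ↥K :=
    fun x => ⟨c x.1 * x.2.1, K.mul_mem (hcK x.1 x.1.2) (hC x.2.2)⟩
  have hφ : Function.Injective φ := by
    rintro ⟨x, a⟩ ⟨y, b⟩ h
    have h1 : c x * a.1 = c y * b.1 := congrArg Subtype.val h
    have ha := mem_centralizer_singleton_iff.1 a.2
    have hb := mem_centralizer_singleton_iff.1 b.2
    have e : ∀ (z : ↥D) (a : G), a * s = s * a → (c z * a) * s * (c z * a)⁻¹ = z.1 := by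
      intro z a ha
      calc (c z * a) * s * (c z * a)⁻¹ = c z * (a * s) * a⁻¹ * (c z)⁻¹ := by group
        _ = c z * (s * a) * a⁻¹ * (c z)⁻¹ := by rw [ha]
        _ = c z * s * (c z)⁻¹ := by group
        _ = z.1 := hc z.1 z.2
    have h2 : x = y := by
      apply Subtype.ext
      rw [← e x a.1 ha, ← e y b.1 hb, h1]
    subst h2
    have h3 : a = b := Subtype.ext (mul_left_cancel h1)
    rw [h3]
  have h := Nat.card_le_card_of_injective φ hφ
  rwa [Nat.card_prod, Nat.card_eq_fintype_card, Fintype.card_coe] at h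

/-! ### The class of `W` -/

section
variable {s : Fi23} (hs : s ^ 3 = W)
include hs

theorem s_CW : s ∈ CW := by
  rw [mem_CW, ← hs]
  exact ((Commute.refl s).pow_right 3).eq

theorem exists_moved : ∃ b ∈ fixS W, rho s b ≠ b := by
  by_contra hcon
  push Not at hcon
  have hfix : ∀ p ∈ nine, rho s p = p := by
    intro p hp
    exact hcon p (mem_mF.1 (orb_facts.2.2.2.2.2 p hp))
  have hF : Fixes s := by
    constructor <;> exact hfix _ (by simp [nine])
  have hc : ∀ q, rho s (rho W q) = rho W (rho s q) := by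
    intro q
    rw [← app_mul, mem_CW.1 (s_CW hs), app_mul]
  have h3 : rho s (rho s (rho s 0)) = 8006 := by
    rw [← app_mul, ← app_mul, show s * s * s = W by rw [← hs, pow_succ, pow_two]]
    exact W_pts.1
  obtain ⟨w1, w2, w3, -⟩ := W_pts
  have a1 := hF.act_z (p := 0) (by simp)
  have e1 : rho s 8006 = rho W (rho s 0) := by rw [← hc, w1]
  have e2 : rho s 1 = rho W (rho W (rho s 0)) := by rw [← e1, ← hc, w2]
  simp only [List.mem_cons, List.not_mem_nil, or_false] at a1
  rcases a1 with a1 | a1 | a1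
  · rw [a1, a1, a1] at h3
    exact absurd h3 (by norm_num)
  · rw [a1, w3, w1] at e2
    rw [a1, w3] at e1
    rw [a1, e2, e1] at h3
    exact absurd h3 (by norm_num)
  · rw [a1, w2] at e1
    rw [a1, w2, w3] at e2
    rw [a1, e1, e2] at h3
    exact absurd h3 (by norm_num)

/-- the moved points -/
noncomputable def mv (s : Fi23) : Finset ℕ := (fixS W).filter fun q => rho s q ≠ q

omit hs in
theorem mem_mv {q : ℕ} : q ∈ mv s ↔ q ∈ fixS W ∧ rho s q ≠ q := by
  unfold mv
  rw [Finset.mem_filter]

theorem mv_card : 149 ≤ (mv s).card := by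
  classical
  obtain ⟨b, hb, hbm⟩ := exists_moved hs
  have hblt : b < 31671 := (mem_fixS.1 hb).1
  set Φ := (fixS W).filter fun q => rho s q = q with hΦ
  have h1 : Φ.card + (mv s).card = 324 := by
    rw [← card_F]
    exact Finset.card_filter_add_card_filter_not (s := fixS W) (fun q => rho s q = q)
  have h2 : (Φ.filter fun q => Com b q).card + (Φ.filter fun q => ¬ Com b q).card = Φ.card :=
    Finset.card_filter_add_card_filter_not _
  have h3 : (Φ.filter fun q => Com b q).card ≤ 27 := by
    have h4 : Φ.filter (fun q => Com b q) ⊆ ((fixS W).filter (fun q => Com b q)).erase b := by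
      intro q hq
      rw [Finset.mem_filter, hΦ, Finset.mem_filter] at hq
      rw [Finset.mem_erase, Finset.mem_filter]
      refine ⟨?_, hq.1.1, hq.2⟩
      rintro rfl
      exact hbm hq.1.2
    have h5 := Finset.card_le_card h4
    have h7 : (((fixS W).filter (fun q => Com b q)).erase b).card = ((fixS W).filter (fun q => Com b q)).card - 1 :=
      Finset.card_erase_of_mem (Finset.mem_filter.2 ⟨hb, com_self hblt⟩)
    rw [h7] at h5
    have h6 : ((fixS W).filter (fun q => Com b q)).card ≤ 28 := com_v hb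
    omega
  have h4 : (Φ.filter fun q => ¬ Com b q).card ≤ ((mv s).erase b).card := by
    refine Finset.card_le_card_of_injOn (fun v => rho (T v) b) ?_ ?_
    · intro v hv
      rw [Finset.mem_coe, Finset.mem_filter, hΦ, Finset.mem_filter, mem_fixS] at hv
      obtain ⟨⟨⟨hv1, hv2⟩, hv3⟩, hv4⟩ := hv
      have hTW := (fix_iff W hv1).1 hv2
      have hTs := (fix_iff s hv1).1 hv3
      rw [Finset.mem_coe, Finset.mem_erase, mem_mv]
      refine ⟨?_, CW_F (mem_CW.2 hTW.symm) hb, ?_⟩
      · intro h
        exact hv4 ((com_comm hv1 hblt).1 h)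
      · change rho s (rho (T v) b) ≠ rho (T v) b
        rw [← app_mul, hTs, app_mul]
        intro h
        exact hbm ((rho (T v)).injective h)
    · intro v hv v' hv' h
      rw [Finset.mem_coe, Finset.mem_filter, hΦ, Finset.mem_filter, mem_fixS] at hv hv'
      have key : ∀ u : ℕ, u < 31671 → ¬ Com b u → rho (T u) b = rho (T b) u := by
        intro u hu hn
        apply T_inj (act_lt _ hblt) (act_lt _ hu)
        rw [T_act _ hblt, T_act _ hu]
        have h1 := braid hblt hu hn
        have e1 : (T u)⁻¹ = T u := inv_eq_of_mul_eq_one_left (T_sq hu)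
        have e2 : (T b)⁻¹ = T b := inv_eq_of_mul_eq_one_left (T_sq hblt)
        rw [e1, e2, h1]
      change rho (T v) b = rho (T v') b at h
      rw [key v hv.1.1.1 hv.2, key v' hv'.1.1.1 hv'.2] at h
      exact (rho (T b)).injective h
  have h5 : ((mv s).erase b).card = (mv s).card - 1 := Finset.card_erase_of_mem (mem_mv.2 ⟨hb, hbm⟩)
  have h6 : 0 < (mv s).card := Finset.card_pos.2 ⟨b, mem_mv.2 ⟨hb, hbm⟩⟩
  omega

theorem cube_W : Nat.card ↥(centralizer ({s} : Set Fi23)) ≤ 39191040 := by
  classical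
  have hT : ∀ p < 31671, T (rho s⁻¹ p) = s⁻¹ * T p * s := by
    intro p hp
    rw [T_act _ hp, inv_inv]
  set f : ℕ → Fi23 := fun p => s⁻¹ * T p * s * T p with hf
  have h1 : (mv s).card ≤ 3 * ((mv s).image f).card := by
    refine Finset.card_le_mul_card_image _ 3 ?_
    intro a ha
    rw [Finset.mem_image] at ha
    obtain ⟨p, hp, rfl⟩ := ha
    rw [mem_mv, mem_fixS] at hp
    obtain ⟨⟨hp1, -⟩, hp2⟩ := hp
    obtain ⟨S, hS, hS2⟩ := fib (p' := rho s⁻¹ p) (p := p) (act_lt _ hp1) hp1 (by
      intro h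
      apply hp2
      conv_lhs => rw [h]
      rw [← app_mul, mul_inv_cancel, map_one]
      rfl)
    refine (Finset.card_le_card ?_).trans hS
    intro q hq
    rw [Finset.mem_filter, mem_mv, mem_fixS] at hq
    refine hS2 (rho s⁻¹ q) q (act_lt _ hq.1.1.1) hq.1.1.1 ?_
    rw [hT q hq.1.1.1, hT p hp1]
    exact hq.2
  have h2 := mv_card hs
  have h3 : 50 ≤ (((mv s).image f).image fun g => s * g).card := by
    rw [Finset.card_image_of_injective _ (mul_right_injective s)]
    omega
  have hC : centralizer ({s} : Set Fi23) ≤ CW := by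
    have := cent_le_pow s 3
    rw [hs] at this
    exact this
  have h4 := card_orbit_le hC (((mv s).image f).image fun g => s * g) (by
    intro x hx
    rw [Finset.mem_image] at hx
    obtain ⟨g, hg, rfl⟩ := hx
    rw [Finset.mem_image] at hg
    obtain ⟨p, hp, rfl⟩ := hg
    rw [mem_mv, mem_fixS] at hp
    obtain ⟨⟨hp1, hp3⟩, hp2⟩ := hp
    refine ⟨T p, mem_CW.2 ((fix_iff W hp1).1 hp3).symm, ?_⟩
    have e1 : (T p)⁻¹ = T p := inv_eq_of_mul_eq_one_left (T_sq hp1)
    rw [e1, hf]
    group)
  have h5 := card_CW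
  have h6 : 50 * Nat.card ↥(centralizer ({s} : Set Fi23)) ≤ 1693052928 :=
    (Nat.mul_le_mul_right _ h3).trans (h4.trans h5)
  omega

end

theorem k_e : eqM ([.e] ++ w0) (y324 ++ [.e]) = true := by decide +kernel

theorem rep2 : elw [.e] * W * (elw [.e])⁻¹ = rep 2 := by
  have h := elw_eq k_e
  rw [elw_append, elw_append] at h
  rw [mul_inv_eq_iff_eq_mul]
  exact h

/-- **the centralizer of an element of order 9 of `Fi23`** -/
theorem nine_le {s : Fi23} (hs : orderOf s = 9) : Nat.card ↥(centralizer ({s} : Set Fi23)) ≤ 39191040 := by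
  have h9 : (s ^ 3) ^ 3 = 1 := by
    rw [← pow_mul]
    exact orderOf_dvd_iff_pow_eq_one.1 (by rw [hs])
  have h3 : s ^ 3 ≠ 1 := by
    intro h
    have := orderOf_dvd_of_pow_eq_one h
    rw [hs] at this
    revert this
    decide
  obtain ⟨k, g, hg⟩ := classes h9 h3
  have ht : ∃ t : Fi23, t ^ 3 = rep k ∧
      Nat.card ↥(centralizer ({t} : Set Fi23)) = Nat.card ↥(centralizer ({s} : Set Fi23)) := by
    rcases hg with hg | hg
    · exact ⟨g * s * g⁻¹, by rw [conj_pow, hg], card_cent_conj g s⟩
    · refine ⟨(g * s * g⁻¹)⁻¹, by rw [inv_pow, conj_pow, hg, inv_inv], ?_⟩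
      rw [cent_inv, card_cent_conj]
  obtain ⟨t, ht, e⟩ := ht
  rw [← e]
  have hle : Nat.card ↥(centralizer ({t} : Set Fi23)) ≤ Nat.card ↥(centralizer ({rep k} : Set Fi23)) := by
    rw [← ht]
    exact Subgroup.card_le_of_le (cent_le_pow t 3)
  fin_cases k
  · exact (not_rep0 ht).elim
  · exact hle.trans (card_rep1.trans (by norm_num))
  · have h1 : ((elw [.e])⁻¹ * t * elw [.e]) ^ 3 = W := by
      have h2 : (elw [.e])⁻¹ * t * elw [.e] = (elw [.e])⁻¹ * t * ((elw [.e])⁻¹)⁻¹ := by rw [inv_inv]
      rw [h2, conj_pow, inv_inv, show t ^ 3 = rep 2 from ht, ← rep2]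
      group
    have h2 := cube_W h1
    have h3 := card_cent_conj (elw [.e])⁻¹ t
    rw [inv_inv] at h3
    rwa [h3] at h2
  · exact hle.trans (card_rep3.le.trans (by norm_num))

end Cfsg.Agent.H153.Pw.Fi23Nine
end
end
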